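import Mathlib
import Cfsg.Prelude.Def_LocalStructure
import Cfsg.Agent.Lib.DefectOne.PrincipalStructure
import Cfsg.Agent.Lib.BrauerMap.Principal
import Cfsg.Agent.Lib.CharCount.Basic
import Cfsg.Agent.Lib.Chars.Integral
import Cfsg.Agent.Lib.Chars.Ops

/-!
Groups with non-normal Sylow `p`-subgroups are large (Brauer's bound).
-/

set_option autoImplicit false

namespace Cfsg.Agent.Lib.LeastNonClosed

open Cfsg Subgroup
open scoped Pointwise

variable {p : ℕ}

/-- The degrees of the non-exceptional characters. -/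
theorem degree_cases {k f d : ℕ} {δ : ℤ} (hk : 1 ≤ k) (hf : 1 ≤ f)
    (hsmall : 2 * ((1 + k * p) * f) + 1 < p ^ 2) (hd : 0 < d) (hδ : δ = 1 ∨ δ = -1)
    (hmod : (d : ℤ) ≡ δ [ZMOD p]) (hdvd : d ∣ (1 + k * p) * f) :
    δ = 1 ∧ (d = 1 ∨ d = 1 + k * p) := by
  have hp : 0 < p := by
    rcases Nat.eq_zero_or_pos p with rfl | h
    · simp at hsmall
    · exact h
  obtain ⟨a, ha⟩ := (Int.modEq_iff_dvd.mp hmod.symm)
  have hkf : 2 * (k * f) < p := by
    by_contra h
    have h1 : p * p ≤ 2 * (k * f) * p := Nat.mul_le_mul_right p (not_lt.mp h)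
    nlinarith
  have hfk : f ≤ k * f := Nat.le_mul_of_pos_left f hk
  have hdiv : (d : ℤ) ∣ f * (a - δ * k) := by
    have h1 : (d : ℤ) ∣ ((1 + k * p) * f : ℕ) := Int.natCast_dvd_natCast.mpr hdvd
    have h2 : (f : ℤ) * (a - δ * k) = (((1 + k * p) * f : ℕ) : ℤ) * a - f * k * d := by
      have : (d : ℤ) = δ + p * a := by linarith
      rw [this]
      push_cast
      ring
    rw [h2]
    exact dvd_sub (h1.mul_right _) (dvd_mul_left _ _)
  have hdZ : (0 : ℤ) < d := by exact_mod_cast hd
  have hpZ : (0 : ℤ) < p := by exact_mod_cast hp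
  have hkfZ : 2 * ((k : ℤ) * f) < p := by exact_mod_cast hkf
  have hfkZ : (f : ℤ) ≤ k * f := by exact_mod_cast hfk
  have hkZ : (1 : ℤ) ≤ k := by exact_mod_cast hk
  have hfZ : (1 : ℤ) ≤ f := by exact_mod_cast hf
  have ha0 : 0 ≤ a := by
    by_contra h
    have : (p : ℤ) * a ≤ -p := by nlinarith
    rcases hδ with rfl | rfl <;> nlinarith
  by_cases hz : a - δ * k = 0
  · rcases hδ with rfl | rfl
    · refine ⟨rfl, Or.inr ?_⟩
      have : (d : ℤ) = ((1 + k * p : ℕ) : ℤ) := by
        push_cast
        have : a = k := by linarith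
        subst this
        linarith
      exact_mod_cast this
    · linarith
  · have hle : (d : ℤ) ≤ f * (a + k) := by
      have h1 := Int.le_of_dvd (abs_pos.mpr (mul_ne_zero (by omega) hz)) ((dvd_abs _ _).mpr hdiv)
      rw [abs_mul, abs_of_nonneg (by omega : (0 : ℤ) ≤ f)] at h1
      refine h1.trans (mul_le_mul_of_nonneg_left ?_ (by omega))
      rcases hδ with rfl | rfl <;> rw [abs_le] <;> constructor <;> linarith
    rcases eq_or_lt_of_le ha0 with h | h
    · subst h
      rcases hδ with rfl | rfl
      · exact ⟨rfl, Or.inl (by omega)⟩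
      · linarith
    · exfalso
      rcases eq_or_lt_of_le (show 1 ≤ a by omega) with h' | h'
      · subst h'
        have h4 : (p : ℤ) - 1 ≤ f + k * f := by
          rcases hδ with rfl | rfl <;> linarith
        have h5 : 2 * ((k : ℤ) * f) = p - 1 := by omega
        have h6 : (f : ℤ) = k * f := by omega
        have hk1 : k = 1 := by
          have : f * 1 = f * k := by rw [mul_one, mul_comm]; exact_mod_cast h6
          exact (Nat.eq_of_mul_eq_mul_left hf this).symm
        subst hk1
        have h7 : 2 * f + 1 = p := by omega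
        rw [← h7] at hsmall
        nlinarith
      · have h4 : (p : ℤ) * a - 1 ≤ f * a + k * f := by
          rcases hδ with rfl | rfl <;> linarith
        nlinarith

theorem card_modEq_fixed {G : Type*} [Group G] [Finite G] [Fact p.Prime] {x : G}
    (hx : orderOf x = p) (Q : Subgroup G) (hQ : ∀ g ∈ zpowers x, ∀ q ∈ Q, g * q * g⁻¹ ∈ Q) :
    Nat.card Q ≡ Nat.card (Q ⊓ centralizer ({x} : Set G) : Subgroup G) [MOD p] := by
  let act : MulAction (zpowers x) Q :=
    { smul := fun a q => ⟨a * q * (a : G)⁻¹, hQ a a.2 q q.2⟩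
      one_smul := fun q => Subtype.ext (by show (1 : G) * q * (1 : G)⁻¹ = q; simp)
      mul_smul := fun a b q => Subtype.ext (by
        show (a * b : G) * q * (a * b : G)⁻¹ = a * (b * q * (b : G)⁻¹) * (a : G)⁻¹
        group) }
  have hP : IsPGroup p (zpowers x) := IsPGroup.of_card (n := 1) (by rw [Nat.card_zpowers, hx, pow_one])
  refine (hP.card_modEq_card_fixedPoints (α := Q)).trans (congrArg (· % p) (Nat.card_congr ?_))
  refine
    { toFun := fun q => ⟨q.1, q.1.2, mem_centralizer_singleton_iff.mpr ?_⟩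
      invFun := fun q => ⟨⟨q.1, q.2.1⟩, fun a => Subtype.ext ?_⟩
      left_inv := fun _ => rfl
      right_inv := fun _ => rfl }
  · have h := congrArg Subtype.val (q.2 ⟨x, mem_zpowers x⟩)
    change x * (q.1 : G) * x⁻¹ = q.1 at h
    exact (mul_inv_eq_iff_eq_mul.mp h).symm
  · show (a : G) * q * (a : G)⁻¹ = q
    obtain ⟨i, hi⟩ := mem_zpowers_iff.mp a.2
    rw [← hi, mul_inv_eq_iff_eq_mul]
    exact ((show Commute x q from (mem_centralizer_singleton_iff.mp q.2.2).symm).zpow_left i).eq

/-- A nontrivial action of a group of order `p` on a `p'`-group needs a prime power `≡ 1`. -/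
theorem exists_primePow {G : Type*} [Group G] [Finite G] [hp : Fact p.Prime] (P : Sylow p G)
    (hP : Nat.card P = p) (N : Subgroup G) [N.Normal] (hidx : N.index = p)
    (hPn : ¬ (P : Subgroup G).Normal) :
    ∃ r, IsPrimePow r ∧ r % p = 1 ∧ r ≤ Nat.card N := by
  obtain ⟨x, hxP, hx1⟩ : ∃ x ∈ (P : Subgroup G), x ≠ 1 := by
    refine (Subgroup.ne_bot_iff_exists_ne_one.mp fun h => hp.out.ne_one ?_).elim
      fun a ha => ⟨a.1, a.2, fun h => ha (Subtype.ext h)⟩
    rw [← hP, ← Subgroup.card_bot (G := G), ← h]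
  obtain ⟨hPx, hox⟩ := DefectOne.sylow_eq_zpowers P hP hxP hx1
  by_contra hno
  -- every prime power part of `N` is centralised by `x`
  have key : ∀ q, q.Prime → q ^ (Nat.card N).factorization q ∣
      Nat.card (N ⊓ centralizer ({x} : Set G) : Subgroup G) := by
    intro q hq
    have : Fact q.Prime := ⟨hq⟩
    obtain ⟨Q₀⟩ : Nonempty (Sylow q N) := inferInstance
    set Q := (Q₀ : Subgroup N).map N.subtype with hQdef
    have hsup : normalizer (Q : Set G) ⊔ N = ⊤ := Sylow.normalizer_sup_eq_top Q₀
    have hpN : p ∣ Nat.card (normalizer (Q : Set G)) := by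
      have h1 : N.relIndex (normalizer (Q : Set G)) = p := by
        rw [← Subgroup.relIndex_sup_right (normalizer (Q : Set G)) N, hsup, relIndex_top_right, hidx]
      rw [← h1]
      exact Subgroup.relIndex_dvd_card _ _
    obtain ⟨y, hy⟩ := exists_prime_orderOf_dvd_card' p hpN
    rw [← Subgroup.orderOf_coe] at hy
    obtain ⟨P', hP'⟩ := (IsPGroup.of_card (n := 1) (G := zpowers (y : G))
      (by rw [Nat.card_zpowers, hy, pow_one])).exists_le_sylow
    have hP'card : Nat.card P' = p := by
      exact (Nat.card_congr (Sylow.equiv P' P).toEquiv).trans hP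
    have hyP' : zpowers (y : G) = P' :=
      eq_of_le_of_card_ge hP' (by rw [Nat.card_zpowers, hy, hP'card])
    obtain ⟨h, hh⟩ := MulAction.exists_smul_eq G P' P
    -- the conjugate of `Q`
    set Q' := Q.map (MulAut.conj h).toMonoidHom with hQ'
    have hQ'N : Q' ≤ N := by
      rintro _ ⟨z, ⟨z', -, rfl⟩, rfl⟩
      exact ‹N.Normal›.conj_mem _ z'.2 h
    have hQ'card : Nat.card Q' = q ^ (Nat.card N).factorization q := by
      rw [hQ', Nat.card_congr (Q.equivMapOfInjective _ (MulEquiv.injective _)).symm.toEquiv, hQdef,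
        Nat.card_congr ((Q₀ : Subgroup N).equivMapOfInjective _ N.subtype_injective).symm.toEquiv]
      exact Q₀.card_eq_multiplicity
    have hnorm : ∀ g ∈ zpowers x, ∀ z ∈ Q', g * z * g⁻¹ ∈ Q' := by
      intro g hg z hz
      rw [← hPx, ← hh, Sylow.coe_subgroup_smul, ← hyP'] at hg
      obtain ⟨g₀, hg₀, rfl⟩ := hg
      obtain ⟨z₀, hz₀, rfl⟩ := hz
      refine ⟨g₀ * z₀ * g₀⁻¹, ?_, ?_⟩
      · exact (mem_normalizer_iff.mp ((zpowers_le.mpr y.2 : zpowers (y : G) ≤ _) hg₀) z₀).mp hz₀
      · simp [mul_assoc]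
    rcases eq_or_ne (Q' ⊓ centralizer ({x} : Set G)) Q' with he | hne
    · rw [← hQ'card]
      exact Subgroup.card_dvd_of_le (le_inf hQ'N (inf_eq_left.mp he))
    exfalso
    have hd : Nat.card (Q' ⊓ centralizer ({x} : Set G) : Subgroup G) ∣ Nat.card Q' :=
      Subgroup.card_dvd_of_le inf_le_left
    obtain ⟨c, hc, hceq⟩ := (Nat.dvd_prime_pow hq).mp (hQ'card ▸ hd)
    set a := (Nat.card N).factorization q
    have hca : c < a := by
      refine lt_of_le_of_ne hc fun h' => hne (eq_of_le_of_card_ge inf_le_left ?_)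
      rw [hceq, hQ'card, h']
    have hmod := card_modEq_fixed hox Q' hnorm
    rw [hQ'card, hceq, show a = c + (a - c) by omega, pow_add] at hmod
    have hqp : q ≠ p := by
      intro e
      have h1 : p ∣ Nat.card N :=
        e ▸ (dvd_pow_self q (by omega : a ≠ 0)).trans (Nat.ordProj_dvd _ _)
      have h2 : p * p ∣ Nat.card G := by
        rw [← N.card_mul_index, hidx]
        exact Nat.mul_dvd_mul_right h1 p
      have h3 : p ^ 2 ∣ p := by
        rw [← pow_two] at h2
        have := (hp.out.pow_dvd_iff_le_factorization (Nat.card_pos.ne')).mp h2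
        calc p ^ 2 ∣ p ^ (Nat.card G).factorization p := pow_dvd_pow _ this
          _ = p := by rw [← P.card_eq_multiplicity, hP]
      have := Nat.le_of_dvd hp.out.pos h3
      nlinarith [hp.out.two_le]
    have hone : q ^ (a - c) ≡ 1 [MOD p] := by
      refine Nat.ModEq.cancel_left_of_coprime (c := q ^ c) ?_ (by rw [mul_one]; exact hmod)
      exact (((Nat.coprime_primes hp.out hq).mpr (Ne.symm hqp)).pow_right c)
    refine hno ⟨q ^ (a - c), ⟨q, a - c, hq.prime, by omega, rfl⟩, ?_, ?_⟩
    · exact Eq.trans hone (Nat.one_mod_eq_one.mpr hp.out.ne_one)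
    · exact (Nat.pow_le_pow_right hq.pos (Nat.sub_le a c)).trans
        (Nat.le_of_dvd Nat.card_pos (Nat.ordProj_dvd _ _))
  have hNC : N ≤ centralizer ({x} : Set G) := by
    have h := Nat.dvd_antisymm (Subgroup.card_dvd_of_le (inf_le_left : N ⊓ centralizer ({x} : Set G) ≤ N))
      ((Nat.dvd_iff_prime_pow_dvd_dvd _ _).mpr fun q k hq hk => (pow_dvd_pow q
        ((hq.pow_dvd_iff_le_factorization Nat.card_pos.ne').mp hk)).trans (key q hq))
    exact inf_eq_left.mp (eq_of_le_of_card_ge inf_le_left h.ge)
  apply hPn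
  have htop : N ⊔ (P : Subgroup G) = ⊤ := by
    rcases (Nat.dvd_prime hp.out).mp (hidx ▸ index_dvd_of_le (le_sup_left : N ≤ N ⊔ (P : Subgroup G))) with h | h
    · exact index_eq_one.mp h
    · exfalso
      have hPN : (P : Subgroup G) ≤ N := by
        have := (eq_of_le_of_card_ge (le_sup_left : N ≤ N ⊔ (P : Subgroup G)) (le_of_eq (by
          have h1 := N.card_mul_index
          have h2 := (N ⊔ (P : Subgroup G)).card_mul_index
          rw [h] at h2; rw [hidx] at h1
          exact Nat.eq_of_mul_eq_mul_right hp.out.pos (h2.trans h1.symm))))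
        exact this ▸ le_sup_right
      have h1 : p * p ∣ Nat.card G := by
        rw [← N.card_mul_index, hidx]
        exact Nat.mul_dvd_mul_right (hP ▸ Subgroup.card_dvd_of_le hPN) p
      rw [← pow_two, hp.out.pow_dvd_iff_le_factorization Nat.card_pos.ne'] at h1
      have h2 := Nat.pow_le_pow_right hp.out.pos h1
      rw [← P.card_eq_multiplicity, hP] at h2
      nlinarith [hp.out.two_le]
  rw [← normalizer_eq_top_iff, eq_top_iff, ← htop]
  refine sup_le (le_trans hNC ?_) le_normalizer
  rw [hPx]
  intro g hg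
  rw [mem_normalizer_iff]
  intro z
  have hgc : ∀ w ∈ zpowers x, g * w * g⁻¹ = w := fun w hw => by
    obtain ⟨i, rfl⟩ := mem_zpowers_iff.mp hw
    rw [mul_inv_eq_iff_eq_mul]
    exact ((show Commute g x from mem_centralizer_singleton_iff.mp hg).zpow_right i).eq
  refine ⟨fun hz => by rw [hgc z hz]; exact hz, fun hz => ?_⟩
  have : z = g * z * g⁻¹ := by
    have h := hgc _ hz
    simpa using h.symm
  rwa [this]

/-- A simple group of small order with Sylow subgroups of order `p` does not exist. -/
theorem not_small_simple {G : Type} [Group G] [Finite G] [hp : Fact p.Prime] [IsSimpleGroup G]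
    (hp2 : p ≠ 2) (P : Sylow p G) (hP : Nat.card P = p) (hPn : ¬ (P : Subgroup G).Normal) :
    p * (p ^ 2 - 1) / 2 ≤ Nat.card G := by
  classical
  have := Fintype.ofFinite G
  by_contra hlt
  obtain ⟨M, hM⟩ := CharCount.exists_isPModular p hp.out
  have : M.IsMaximal := hM.2.1
  set C := centralizer ((P : Subgroup G) : Set G) with hC
  set N := normalizer ((P : Subgroup G) : Set G) with hN
  set e := C.relIndex N with he
  have hCN : C ≤ N := centralizer_le_normalizer _
  have hPC : (P : Subgroup G) ≤ C := by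
    obtain ⟨x, hx, hx1⟩ : ∃ x ∈ (P : Subgroup G), x ≠ 1 := by
      refine (Subgroup.ne_bot_iff_exists_ne_one.mp fun h => hp.out.ne_one ?_).elim
        fun a ha => ⟨a.1, a.2, fun h => ha (Subtype.ext h)⟩
      rw [← hP, ← Subgroup.card_bot (G := G), ← h]
    rw [hC, DefectOne.centralizer_sylow P hP hx hx1, (DefectOne.sylow_eq_zpowers P hP hx hx1).1,
      zpowers_le, mem_centralizer_singleton_iff]
  obtain ⟨v, hv⟩ : p ∣ Nat.card C := hP ▸ Subgroup.card_dvd_of_le hPC
  have hcardN : Nat.card N = p * (v * e) := by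
    rw [he, ← Nat.mul_assoc, ← hv]
    rw [← relIndex_bot_left, ← relIndex_bot_left C]
    exact (relIndex_mul_relIndex _ _ _ bot_le hCN).symm
  obtain ⟨k, hk⟩ : ∃ k, N.index = 1 + k * p := by
    have h := card_sylow_modEq_one (p := p) (G := G)
    rw [P.card_eq_index_normalizer] at h
    refine ⟨N.index / p, ?_⟩
    have h1 : N.index % p = 1 := Eq.trans h (Nat.one_mod_eq_one.mpr hp.out.ne_one)
    have := Nat.mod_add_div N.index p
    rw [h1] at this
    rw [mul_comm]; omega
  have hk1 : 1 ≤ k := by
    by_contra h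
    rw [show k = 0 by omega, Nat.zero_mul, index_eq_one, hN, normalizer_eq_top_iff] at hk
    exact hPn hk
  have hcardG : Nat.card G = p * ((1 + k * p) * (v * e)) := by
    rw [← N.card_mul_index, hcardN, hk]; ring
  have hp3 : 3 ≤ p := by have := hp.out.two_le; omega
  have hodd : Odd p := hp.out.odd_of_ne_two hp2
  have hsmall : 2 * ((1 + k * p) * (v * e)) + 1 < p ^ 2 := by
    have h1 : 2 * Nat.card G < p * (p ^ 2 - 1) := by
      obtain ⟨w, hw⟩ := hodd
      have heven : 2 ∣ p * (p ^ 2 - 1) :=
        Dvd.dvd.mul_left ⟨2 * w * w + 2 * w, by subst hw; ring_nf; omega⟩ _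
      omega
    rw [hcardG, Nat.mul_left_comm] at h1
    have := Nat.lt_of_mul_lt_mul_left h1
    omega
  have hf : 1 ≤ v * e := Nat.pos_of_ne_zero fun h => by simp [h] at hcardG
  have hf' : 2 * (v * e) < p := by
    by_contra h
    have h1 : k * p * p ≤ k * p * (2 * (v * e)) := Nat.mul_le_mul_left _ (not_lt.mp h)
    have h2 : p * p ≤ k * p * p := Nat.mul_le_mul_right p (Nat.le_mul_of_pos_left p hk1)
    nlinarith
  have hv0 : 0 < v := Nat.pos_of_ne_zero fun h => by simp [h] at hcardG
  have he2 : 2 ≤ e := by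
    rcases (show e = 0 ∨ e = 1 ∨ 2 ≤ e by omega) with h | h | h
    · simp [h] at hf
    · exfalso
      have hNC : N ≤ C := relIndex_eq_one.mp h
      have hker := MonoidHom.ker_transferSylow_isComplement' P hNC
      rcases (MonoidHom.normal_ker (MonoidHom.transferSylow P hNC)).eq_bot_or_eq_top with hb | ht
      · rw [hb, isComplement'_bot_left] at hker
        exact hPn (hker ▸ inferInstance)
      · rw [ht, isComplement'_top_left] at hker
        rw [hker, Subgroup.card_bot] at hP
        exact hp.out.ne_one hP.symm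
    · exact h
  have hep : e ≤ v * e := Nat.le_mul_of_pos_left e hv0
  obtain ⟨A, B, δ, ε, hblock, hdisj, hA, hB, hA', hε, hB', hrel⟩ :=
    DefectOne.exists_principal hM P hP e rfl
  have hdeg : ∀ χ : IrrCharacter G, ∃ d : ℕ, 0 < d ∧ (χ : G → ℂ) 1 = d ∧ d ∣ Nat.card G ∧
      charDegree (χ : G → ℂ) = d := fun χ => by
    obtain ⟨d, h1, h2, h3⟩ := Chars.irr_degree_dvd_card χ
    exact ⟨d, h1, h2, h3, by simp [charDegree, h2]⟩
  choose d hd0 hd1 hd2 hd3 using hdeg
  have hcop : ∀ χ : IrrCharacter G, ∀ c : ℤ, (d χ : ℤ) ≡ c [ZMOD p] → c ≠ 0 → |c| < p →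
      d χ ∣ (1 + k * p) * (v * e) := by
    intro χ c hc hc0 hcp
    refine Nat.Coprime.dvd_of_dvd_mul_left ((hp.out.coprime_iff_not_dvd.mpr fun h => ?_).symm)
      (hcardG ▸ hd2 χ)
    have h1 : (p : ℤ) ∣ c := by
      have := dvd_add (hc.dvd) (Int.natCast_dvd_natCast.mpr h)
      simpa using this
    exact absurd (Int.le_of_dvd (abs_pos.mpr hc0) ((dvd_abs _ _).mpr h1)) (not_le.mpr hcp)
  have hone : Chars.trivialIrr G ∈ A := by
    have h := BrauerMap.trivialIrr_mem_principalBlock (G := G) M
    rw [hblock] at h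
    rcases h with h | h
    · exact h
    · exfalso
      have h1 := hB' _ h
      rw [hd3] at h1
      have h2 : d (Chars.trivialIrr G) = 1 := by
        have := hd1 (Chars.trivialIrr G)
        simp [Chars.trivialIrr] at this
        exact_mod_cast this.symm
      rw [h2, Int.modEq_iff_dvd] at h1
      have h3 : |ε * (e : ℤ) - 1| < p := by
        rcases hε with rfl | rfl <;> rw [abs_lt] <;> constructor <;> omega
      have h4 : ε * (e : ℤ) - 1 ≠ 0 := by
        rcases hε with rfl | rfl <;> omega
      exact absurd (Int.le_of_dvd (abs_pos.mpr h4) ((dvd_abs _ _).mpr (by simpa using h1)))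
        (not_le.mpr h3)
  have hAdeg : ∀ χ ∈ A, δ χ = 1 ∧ (χ = Chars.trivialIrr G ∨ d χ = 1 + k * p) := by
    intro χ hχ
    obtain ⟨h1, h2, -⟩ := hA' χ hχ
    rw [hd3] at h2
    obtain ⟨h3, h4⟩ := degree_cases hk1 hf hsmall (hd0 χ) h1 h2
      (hcop χ _ h2 (by rcases h1 with h | h <;> omega) (by rcases h1 with h | h <;> simp [h] <;> omega))
    refine ⟨h3, h4.imp_left fun hd => ?_⟩
    obtain ⟨φ, hφ⟩ := Chars.exists_hom_of_degree_one
      (χ := (χ : G → ℂ)) (by obtain ⟨n, ρ, -, h⟩ := χ.2; exact ⟨n, ρ, h⟩) (by rw [hd1, hd, Nat.cast_one])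
    rcases (MonoidHom.normal_ker φ).eq_bot_or_eq_top with hb | ht
    · exfalso
      have hinj := φ.ker_eq_bot_iff.mp hb
      have : IsMulCommutative G := ⟨⟨fun a b => hinj (by rw [map_mul, map_mul, mul_comm])⟩⟩
      exact hPn ⟨fun z hz g => by
        rw [IsMulCommutative.is_comm.comm g z, mul_inv_cancel_right]; exact hz⟩
    · apply Subtype.ext
      funext g
      have : g ∈ φ.ker := ht ▸ Subgroup.mem_top g
      rw [MonoidHom.mem_ker] at this
      simp [hφ, this, Chars.trivialIrr]
  -- the exceptional degree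
  have hBne : B.Nonempty := by
    rw [← Finset.card_pos, hB]
    exact Nat.div_pos (by omega) (by omega)
  obtain ⟨θ, hθ⟩ := hBne
  have hsum : (ε : ℂ) * (θ : G → ℂ) 1 = (1 + (e - 1) * (1 + k * p) : ℕ) := by
    rw [hrel θ hθ 1 (by simpa using hp.out.ne_one), ← Finset.add_sum_erase A _ hone,
      Finset.sum_congr rfl (g := fun _ => (((1 + k * p : ℕ) : ℕ) : ℂ)) fun χ hχ => ?_]
    · rw [Finset.sum_const, Finset.card_erase_of_mem hone, hA, (hAdeg _ hone).1, nsmul_eq_mul]
      simp [Chars.trivialIrr]
    · obtain ⟨h1, h2⟩ := hAdeg χ (Finset.mem_of_mem_erase hχ)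
      rcases h2 with h2 | h2
      · exact absurd h2 (Finset.ne_of_mem_erase hχ)
      · rw [h1, hd1, h2]; simp
  rw [hd1] at hsum
  have hθd : d θ = 1 + (e - 1) * (1 + k * p) := by
    rcases hε with rfl | rfl
    · simp only [Int.cast_one, one_mul] at hsum
      exact_mod_cast hsum
    · exfalso
      have : -(d θ : ℤ) = ((1 + (e - 1) * (1 + k * p) : ℕ) : ℤ) := by
        have h' : ((-(d θ : ℤ) : ℤ) : ℂ) = (((1 + (e - 1) * (1 + k * p) : ℕ) : ℤ) : ℂ) := by
          rw [← neg_one_mul ((d θ : ℤ))]
          push_cast at hsum ⊢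
          exact hsum
        exact_mod_cast h'
      omega
  have hdvd := hcop θ (ε * e) (hd3 θ ▸ hB' θ hθ) (by rcases hε with rfl | rfl <;> omega)
    (by rcases hε with rfl | rfl <;> simp <;> omega)
  rw [hθd] at hdvd
  have hcp : (1 + (e - 1) * (1 + k * p)).Coprime (1 + k * p) := by
    rw [Nat.coprime_add_mul_right_left]; exact Nat.coprime_one_left _
  have hle := Nat.le_of_dvd hf (hcp.dvd_of_dvd_mul_left hdvd)
  have : 1 + k * p ≤ (e - 1) * (1 + k * p) := Nat.le_mul_of_pos_left _ (by omega)
  have : p ≤ k * p := Nat.le_mul_of_pos_left p hk1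
  omega

/-- The bound for every group whose Sylow `p`-subgroups are not normal. -/
theorem le_card [hp : Fact p.Prime] (hp2 : p ≠ 2) {m : ℕ}
    (hleast : ∀ k : ℕ, IsPrimePow k → k % p = 1 → m ≤ k) :
    ∀ (n : ℕ) (G : Type) [Group G] [Finite G], Nat.card G ≤ n → ¬ IsPClosed p G →
      min (p * m) (p * (p ^ 2 - 1) / 2) ≤ Nat.card G := by
  intro n
  induction n with
  | zero => intro G _ _ h _; exact absurd h (by have := Nat.card_pos (α := G); omega)
  | succ n ih =>
    intro G _ _ hn hnc
    have hnc' := hnc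
    simp only [IsPClosed, not_forall] at hnc'
    obtain ⟨P, hPn⟩ := hnc'
    have hnp : p + 1 ≤ (normalizer ((P : Subgroup G) : Set G)).index := by
      have h := card_sylow_modEq_one (p := p) (G := G)
      rw [P.card_eq_index_normalizer] at h
      have h1 : (normalizer ((P : Subgroup G) : Set G)).index % p = 1 :=
        Eq.trans h (Nat.one_mod_eq_one.mpr hp.out.ne_one)
      by_contra hlt
      set w := (normalizer ((P : Subgroup G) : Set G)).index with hw
      have hw1 : w = 1 := by
        rcases Nat.lt_or_ge w p with h2 | h2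
        · rwa [Nat.mod_eq_of_lt h2] at h1
        · rw [show w = p by omega, Nat.mod_self] at h1
          omega
      exact hPn (normalizer_eq_top_iff.mp (index_eq_one.mp (hw ▸ hw1)))
    have hPne : (P : Subgroup G) ≠ ⊥ := fun h => hPn (h ▸ inferInstance)
    obtain ⟨j, hj⟩ := P.isPGroup'.exists_card_eq
    rcases (show j = 0 ∨ j = 1 ∨ 2 ≤ j by omega) with rfl | rfl | hj2
    · exact absurd (Subgroup.card_eq_one.mp (by rw [hj, pow_zero])) hPne
    · rw [pow_one] at hj
      by_cases hs : IsSimpleGroup G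
      · exact (min_le_right _ _).trans (not_small_simple hp2 P hj hPn)
      obtain ⟨N, hN, hNb, hNt⟩ : ∃ N : Subgroup G, N.Normal ∧ N ≠ ⊥ ∧ N ≠ ⊤ := by
        by_contra hno
        have : Nontrivial G := nontrivial_iff.mpr ((P : Subgroup G).nontrivial_iff_ne_bot.mpr hPne
          |>.exists_pair_ne |> fun ⟨a, b, hab⟩ => ⟨a.1, b.1, fun h => hab (Subtype.ext h)⟩)
        exact hs ⟨fun H hH => by
          by_contra h
          simp only [not_or] at h
          exact hno ⟨H, hH, h⟩⟩
      by_cases hNc : IsPClosed p N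
      swap
      · have hlt : Nat.card N < Nat.card G := by
          refine lt_of_le_of_ne (Nat.le_of_dvd Nat.card_pos (Subgroup.card_subgroup_dvd_card N))
            fun h => hNt (card_eq_iff_eq_top _ |>.mp h)
        exact (ih N (by omega) hNc).trans hlt.le
      by_cases hQc : IsPClosed p (G ⧸ N)
      swap
      · have hlt : Nat.card (G ⧸ N) < Nat.card G := by
          rw [← Subgroup.index_eq_card]
          have h2 : 2 ≤ Nat.card N := by
            by_contra h
            have := Nat.card_pos (α := N)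
            exact hNb (Subgroup.card_eq_one.mp (by omega))
          have h3 := N.card_mul_index
          nlinarith [Nat.pos_of_ne_zero (N.index_ne_zero_of_finite)]
        exact (ih (G ⧸ N) (by omega) hQc).trans hlt.le
      have hpN : ¬ p ∣ Nat.card N := by
        intro hd
        obtain ⟨R⟩ : Nonempty (Sylow p N) := inferInstance
        have := hNc R
        have hRchar : (R : Subgroup N).Characteristic := R.characteristic_of_normal this
        have hRG : ((R : Subgroup N).map N.subtype).Normal := inferInstance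
        obtain ⟨R', hR'⟩ := (R.isPGroup'.map N.subtype).exists_le_sylow
        have hcR : Nat.card ((R : Subgroup N).map N.subtype) = Nat.card R :=
          Nat.card_congr ((R : Subgroup N).equivMapOfInjective _ N.subtype_injective).symm.toEquiv
        have hpR : p ≤ Nat.card R := by
          rw [R.card_eq_multiplicity]
          exact Nat.le_self_pow
            (hp.out.factorization_pos_of_dvd Nat.card_pos.ne' hd).ne' p
        have heq : (R : Subgroup N).map N.subtype = R' := eq_of_le_of_card_ge hR' (by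
          rw [hcR]
          refine le_trans (le_of_eq ?_) hpR
          exact (Nat.card_congr (Sylow.equiv R' P).toEquiv).trans hj)
        have hR'n : (R' : Subgroup G).Normal := heq ▸ hRG
        have : Subsingleton (Sylow p G) := (Sylow.unique_of_normal R' hR'n).instSubsingleton
        exact hPn (Subsingleton.elim R' P ▸ hR'n)
      set M := N ⊔ (P : Subgroup G) with hM
      have hMn : M.Normal := by
        have h := hQc (P.mapSurjective (QuotientGroup.mk'_surjective N))
        have h2 := h.comap (QuotientGroup.mk' N)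
        rw [Sylow.coe_mapSurjective, Subgroup.comap_map_eq, QuotientGroup.ker_mk'] at h2
        rw [hM, sup_comm]
        exact h2
      have hMnc : ¬ IsPClosed p M := by
        intro hc
        apply hPn
        have hPM : (P : Subgroup G) ≤ M := le_sup_right
        have hn' := hc (P.subtype hPM)
        have := Sylow.characteristic_of_normal _ hn'
        have h2 : (((P.subtype hPM : Sylow p M) : Subgroup M).map M.subtype).Normal := inferInstance
        rwa [Sylow.coe_subtype, Subgroup.map_subgroupOf_eq_of_le hPM] at h2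
      by_cases hMt : M = ⊤
      swap
      · have hlt : Nat.card M < Nat.card G := by
          refine lt_of_le_of_ne (Nat.le_of_dvd Nat.card_pos (Subgroup.card_subgroup_dvd_card M))
            fun h => hMt (card_eq_iff_eq_top _ |>.mp h)
        exact (ih M (by omega) hMnc).trans hlt.le
      have hidx : N.index = p := by
        have hdis : N ⊓ (P : Subgroup G) = ⊥ := inf_eq_bot_of_coprime
          (by rw [hj]; exact (hp.out.coprime_iff_not_dvd.mpr hpN).symm)
        have hc : IsComplement' N (P : Subgroup G) :=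
          isComplement'_of_disjoint_and_mul_eq_univ (disjoint_iff.mpr hdis)
            (by rw [← Subgroup.normal_mul, ← hM, hMt, Subgroup.coe_top])
        rw [hc.symm.index_eq_card]
        exact hj
      obtain ⟨r, hr, hr1, hrle⟩ := exists_primePow P hj N hidx hPn
      refine (min_le_left _ _).trans ?_
      rw [← N.card_mul_index, hidx, mul_comm]
      exact Nat.mul_le_mul_right p ((hleast r hr hr1).trans hrle)
    · refine (min_le_right _ _).trans ?_
      have h1 : p ^ 2 ≤ Nat.card (normalizer ((P : Subgroup G) : Set G)) :=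
        (Nat.pow_le_pow_right hp.out.pos hj2).trans
          (hj ▸ Nat.le_of_dvd Nat.card_pos (Subgroup.card_dvd_of_le le_normalizer))
      have h2 := Nat.mul_le_mul h1 hnp
      rw [Subgroup.card_mul_index] at h2
      have h3 : p * (p ^ 2 - 1) / 2 ≤ p * p ^ 2 :=
        (Nat.div_le_self _ _).trans (Nat.mul_le_mul_left p (Nat.sub_le _ _))
      nlinarith

end Cfsg.Agent.Lib.LeastNonClosed
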